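import Groth.Agent.Variety.K658.HomogMap
import Groth.Agent.Synt.K561.CotComp
import Groth.Agent.CurvSt.K903.ExtVB
import Groth.Agent.S1937
import Groth.Agent.MorSch.K314.Lift
import Groth.Agent.Omega.K935.SmoothImm

/-!
# The normal sheaf of a curve in a homogeneous space

`G` acts transitively on `X` (over an algebraically closed field of characteristic zero), `F : Y → X` a closed immersion
with `Y` smooth, Noetherian of dimension at most one. The conormal sheaf of `F` injects in a free module with a finite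
locally free cokernel; hence `H¹(Y, O_Y) = 0` implies `H¹(Y, N) = 0`.
-/

set_option autoImplicit false
universe w u
open CategoryTheory CategoryTheory.Limits MonoidalCategory CartesianMonoidalCategory MonObj GrpObj AlgebraicGeometry
open Groth.Agent.Books.BorelOrb TopologicalSpace
open Groth.Agent.Sga67.Sec Groth.Agent.Sga67.ExtSheaf Groth.Agent.Sga67.LocBasis Groth.Agent.Sga67.KosImm
  Groth.Agent.Sga67.KosConormal
open Groth.Agent Groth.Agent.Dual Groth.Agent.Dual.H366 ConSec Conormal WedgeIso ClassMain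
open Groth.Agent.CohqB.HomSheaf (homSheaf)
open CategoryTheory.Abelian

namespace K976.HomogNormal

/-- The conormal module of a closed immersion between smooth schemes. -/
theorem isFinLocFree_conormal {X W Y : Scheme.{u}} (s : X ⟶ W) [IsClosedImmersion s] (w : W ⟶ Y) [Smooth w]
    [Smooth (s ≫ w)] : FlatMod.IsFinLocFree (Omega.conormal s) := by
  intro x
  obtain ⟨c, hc, -⟩ := exists_chart (K935.SmoothImm.isRegularClosedImmersion s w) x ⊤ trivial
  exact ⟨c.V, c.l.length, hc, nonempty_restrict_iso_iff.mpr ⟨_, isLocBasis_fN c⟩⟩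

/-- Finite locally free modules on the spectrum of a field are free. -/
theorem exists_iso_free (k : Type u) [Field k] {V : (Spec (CommRingCat.of k)).Modules} (hV : FlatMod.IsFinLocFree V) :
    ∃ r : ℕ, Nonempty (V ≅ FlatMod.freeMod (Spec (CommRingCat.of k)) r) := by
  have hs : Subsingleton ↥(Spec (CommRingCat.of k)) := inferInstanceAs (Subsingleton (PrimeSpectrum k))
  let x : ↥(Spec (CommRingCat.of k)) := (⊥ : PrimeSpectrum k)
  obtain ⟨U, r, hx, e⟩ := hV x
  have hU : U = ⊤ := by
    ext z
    simp [Subsingleton.elim z x, hx]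
  subst hU
  obtain ⟨c, hc⟩ := Sga67.LocBasis.nonempty_restrict_iso_iff.1 e
  exact ⟨r, Sga67.LocBasis.nonempty_iso_free hc⟩

/-- `Ext` out of a finite free module. -/
theorem subsingleton_ext_free {C : Type*} [Category* C] [Abelian C] [HasExt.{w} C] (A G : C) (n q : ℕ)
    [HasCoproduct (fun _ : Fin n => A)]
    (h : Subsingleton (Ext.{w} A G q)) : Subsingleton (Ext.{w} (∐ fun _ : Fin n => A) G q) := by
  have := HasFiniteBiproducts.of_hasFiniteProducts (C := C)
  have h1 : Subsingleton (Ext.{w} (⨁ fun _ : Fin n => A) G q) :=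
    (Ext.biproductAddEquiv (biproduct.isBilimit (fun _ : Fin n => A)) G q).toEquiv.subsingleton
  let e : (⨁ fun _ : Fin n => A) ≅ ∐ (fun _ : Fin n => A) := biproduct.isoCoproduct _
  refine subsingleton_of_forall_eq 0 fun x => ?_
  have h2 : x = (Ext.mk₀ e.inv).comp ((Ext.mk₀ e.hom).comp x (zero_add q)) (zero_add q) := by
    rw [Ext.mk₀_comp_mk₀_assoc, e.inv_hom_id, Ext.mk₀_id_comp]
  rw [h2, h1.elim ((Ext.mk₀ e.hom).comp x (zero_add q)) 0, Ext.comp_zero]

section sec

variable {S : Scheme.{u}} (G Y : Over S) [GrpObj G]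

/-- `y ↦ (1, y)`. -/
noncomputable def sec : Y ⟶ G ⊗ Y := lift (1 : Y ⟶ G) (𝟙 Y)

theorem sec_hm {X : Over S} (a : AlgGrp.Action G X) (F : Y ⟶ X) : sec G Y ≫ K658.HomogMap.hm a F = F := by
  rw [K658.HomogMap.hm, comp_sm, sec, lift_fst, lift_snd_assoc, Category.id_comp, one_sm]

theorem isPullback_sec :
    IsPullback (sec G Y).left Y.hom (fst G Y).left (η[G].left : S ⟶ G.left) := by
  have hright : IsPullback (snd G Y).left (fst G Y).left Y.hom G.hom := (IsPullback.of_hasPullback G.hom Y.hom).flip
  have houter : IsPullback ((sec G Y).left ≫ (snd G Y).left) Y.hom Y.hom ((η[G].left : S ⟶ G.left) ≫ G.hom) := by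
    have h1 : (sec G Y).left ≫ (snd G Y).left = 𝟙 Y.left := by
      rw [← Over.comp_left, sec, lift_snd, Over.id_left]
    have h2 : (η[G].left : S ⟶ G.left) ≫ G.hom = 𝟙 S := Over.w η[G]
    rw [h1, h2]
    exact IsPullback.id_horiz Y.hom
  refine IsPullback.of_right houter ?_ hright
  have h3 : sec G Y ≫ fst G Y = toUnit Y ≫ η[G] := by rw [sec, lift_fst, Hom.one_def]
  have h4 := congrArg (fun t => t.left) h3
  simp only [Over.comp_left] at h4
  refine h4.trans ?_
  congr 1

end sec

section

variable {k : Type u} [Field k] (G Y : Over (Spec (CommRingCat.of k))) [GrpObj G]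

theorem isClosedImmersion_unit : IsClosedImmersion (X := Spec (CommRingCat.of k)) (η[G].left : _ ⟶ G.left) :=
  isClosedImmersion_of_comp_eq_id (Y := Spec (.of k)) G.hom η[G].left (by simp)

theorem isClosedImmersion_sec : IsClosedImmersion (sec G Y).left :=
  MorphismProperty.of_isPullback (P := @IsClosedImmersion) (isPullback_sec G Y).flip (isClosedImmersion_unit G)

/-- The conormal sheaf of `Y → G × Y` is free. -/
theorem conormal_sec [Smooth G.hom] : ∃ n : ℕ, Nonempty (Omega.conormal (sec G Y).left ≅ FlatMod.freeMod Y.left n) := by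
  have hu : IsClosedImmersion (X := Spec (CommRingCat.of k)) (η[G].left : _ ⟶ G.left) := isClosedImmersion_unit G
  have hs := isClosedImmersion_sec G Y
  have hsm : Smooth ((η[G].left : Spec (CommRingCat.of k) ⟶ G.left) ≫ G.hom) := by
    have h2 : (η[G].left : Spec (CommRingCat.of k) ⟶ G.left) ≫ G.hom = 𝟙 _ := Over.w η[G]
    rw [h2]
    infer_instance
  obtain ⟨n, ⟨e⟩⟩ := exists_iso_free k (isFinLocFree_conormal (X := Spec (CommRingCat.of k)) η[G].left G.hom)
  have hfl : Flat (fst G Y).left := by
    have hY : Flat Y.hom := inferInstance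
    exact MorphismProperty.of_isPullback (P := @Flat) (IsPullback.of_hasPullback G.hom Y.hom).flip hY
  have hiso := Grpsch.ConormalIso.isIso_conormalMap_of_flat (isPullback_sec G Y)
  refine ⟨n, ⟨(asIso (Grpsch.ConormalIso.conormalMap (isPullback_sec G Y).w)).symm ≪≫
    (Scheme.Modules.pullback Y.hom).mapIso e ≪≫ PreservesCoproduct.iso (Scheme.Modules.pullback Y.hom) _ ≪≫
    Sigma.mapIso (fun _ => Groth.Agent.Fga.UnitRestrict.pullbackUnitIso Y.hom)⟩⟩

end

section main

variable {k : Type u} [Field k] [IsAlgClosed k] [CharZero k] {G X Y : Over (Spec (CommRingCat.of k))} [GrpObj G]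
  (a : AlgGrp.Action G X) (F : Y ⟶ X)

theorem subsingleton_H1 [Smooth G.hom] [QuasiCompact G.hom] [Smooth Y.hom] [QuasiCompact Y.hom]
    [IsIntegral X.left] [LocallyOfFiniteType X.hom] [QuasiCompact X.hom] [IsClosedImmersion F.left]
    (htrans : ∀ x x' : 𝟙_ (Over (Spec (CommRingCat.of k))) ⟶ X,
      ∃ σ : 𝟙_ (Over (Spec (CommRingCat.of k))) ⟶ G, CartesianMonoidalCategory.lift σ x ≫ a.act = x')
    [IsNoetherian Y.left] (hd : topologicalKrullDim Y.left ≤ 1)
    (hO : Subsingleton (Coh.HH Y.left (Coh.structureModule Y.left) 1)) :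
    Subsingleton (Coh.HH Y.left (homSheaf (Omega.conormal F.left) (Coh.structureModule Y.left)) 1) := by
  let : Y.left.Over (Spec (CommRingCat.of k)) := ⟨Y.hom⟩
  have hX : Smooth X.hom := K658.HomogMap.smooth_of_homogeneous a htrans
  have hm : Smooth (K658.HomogMap.hm a F).left := K658.HomogMap.smooth_hm a F htrans
  have hs := isClosedImmersion_sec G Y
  have hF : (sec G Y).left ≫ (K658.HomogMap.hm a F).left = F.left := by
    rw [← Over.comp_left, sec_hm]
  have hFY : Smooth (F.left ≫ X.hom) := by
    rw [Over.w F]; infer_instance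
  have hC := isFinLocFree_conormal F.left X.hom
  obtain ⟨n, ⟨e⟩⟩ := conormal_sec G Y
  -- the exact sequence
  obtain ⟨ΩP, dP, hP⟩ := K583.ExistsUniv.exists_isUniversal (K658.HomogMap.hm a F).left
  have hfP : FlatMod.IsFinLocFree ΩP := K561.OmegaSmooth.isFinLocFree_of_isFormallySmoothHom (K658.HomogMap.hm a F).left
    (Groth.Agent.Flat2H.FSSmoothHom.isFormallySmoothHom_of_smooth (K658.HomogMap.hm a F).left) hP
  obtain ⟨φP, hφP⟩ := K561.ConDiff.exists_isConormalDiff (sec G Y).left dP
  let ψ := Groth.Agent.Grpsch.ConormalIso.conormalMap (i := F.left) (i' := (sec G Y).left)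
    (g := (K658.HomogMap.hm a F).left) (h := 𝟙 Y.left) (by rw [Category.id_comp, hF])
  have hψ : OmegaSh.IsConormalMap (sec G Y).left F.left (K658.HomogMap.hm a F).left (𝟙 Y.left) ψ :=
    K583.ConMap.isConormalMap _
  obtain ⟨w₀, h₀⟩ := Groth.Agent.S9711.result (K658.HomogMap.hm a F).left (sec G Y).left F.left hF ΩP dP hP ψ hψ φP hφP
  have hQ := Groth.Agent.PerfB.FlatPull.isFinLocFree_pullback (sec G Y).left hfP
  -- Ext groups
  let : HasExt.{u + 1} Y.left.Modules := HasExt.standard _
  have e1 : Subsingleton (Ext.{u+1} (Coh.structureModule Y.left) (Coh.structureModule Y.left) 1) :=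
    (K903.ExtVB.hhEquiv k (Coh.structureModule Y.left) 1).toEquiv.subsingleton
  have e2 : Subsingleton (Ext.{u+1} (Omega.conormal (sec G Y).left) (Coh.structureModule Y.left) 1) :=
    have := subsingleton_ext_free (Coh.structureModule Y.left) (Coh.structureModule Y.left) n 1 e1
    (K903.ExtVB.preIso k e (Coh.structureModule Y.left) 1).symm.toEquiv.subsingleton
  have e3 : Subsingleton (Ext.{u+1} ((Scheme.Modules.pullback (sec G Y).left).obj ΩP) (Coh.structureModule Y.left) 2) :=
    have := K314.Lift.subsingleton_H2 hd (homSheaf ((Scheme.Modules.pullback (sec G Y).left).obj ΩP) (Coh.structureModule Y.left))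
    (K903.ExtVB.extVB k hQ (Coh.structureModule Y.left) 2).toEquiv.subsingleton
  have e4 : Subsingleton (Ext.{u+1} ((Scheme.Modules.pullback (𝟙 Y.left)).obj (Omega.conormal F.left))
      (Coh.structureModule Y.left) 1) := by
    refine subsingleton_of_forall_eq 0 fun x => ?_
    obtain ⟨y, hy⟩ := Ext.contravariant_sequence_exact₁ h₀ _ x (rfl : 1 + 1 = 2) (e3.elim _ _)
    rw [← hy, e2.elim y 0, Ext.comp_zero]
  have e5 : Subsingleton (Ext.{u+1} (Omega.conormal F.left) (Coh.structureModule Y.left) 1) :=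
    (K903.ExtVB.preIso k ((Scheme.Modules.pullbackId Y.left).app (Omega.conormal F.left))
      (Coh.structureModule Y.left) 1).toEquiv.subsingleton
  exact (K903.ExtVB.extVB k hC (Coh.structureModule Y.left) 1).symm.toEquiv.subsingleton

end main

end K976.HomogNormal
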